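import Groth.Agent.GrDepthPicLib.Regular

/-!
# Systems of local coefficients which are trivial modulo an ideal with deep graded pieces

If the relations `a_i ^ k_ij x_j = b_ij x_i` have a unit solution modulo `J`, where `A/J` has depth at least `3`
and the graded pieces of `J` are free over `A/J`, then they have a unit solution over `A`.
-/

set_option autoImplicit false
set_option maxHeartbeats 1000000

universe u

open IsLocalRing

namespace GrDepthPicLib

variable {A : Type u} [CommRing A] {ι : Type u} [Fintype ι]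
  (a : ι → A) (k : ι → ι → ℕ) (b : ι → ι → A) (J : Ideal A)

/-- `d` solves the relations modulo `K`. -/
def IsSol (K : Ideal A) (d : ι → A) : Prop :=
  ∀ i j, a i ^ k i j * d j - b i j * d i ∈ K

/-- Solutions with coordinates in `J ^ n`. -/
def F (n : ℕ) : Submodule A (ι → A) where
  carrier := {v | (∀ i, v i ∈ J ^ n) ∧ ∀ i j, a i ^ k i j * v j = b i j * v i}
  add_mem' := fun {u v} hu hv => ⟨fun i => Ideal.add_mem _ (hu.1 i) (hv.1 i), fun i j => by
    simp only [Pi.add_apply, mul_add, hu.2, hv.2]⟩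
  zero_mem' := ⟨fun i => by simp, fun i j => by simp⟩
  smul_mem' := fun r v hv => ⟨fun i => Ideal.mul_mem_left _ _ (hv.1 i), fun i j => by
    simp only [Pi.smul_apply, smul_eq_mul, mul_left_comm _ r, hv.2]⟩

/-- `X F_n + Y F_n`. -/
def W (X Y : A) (n : ℕ) : Submodule A (ι → A) where
  carrier := {e | ∃ f ∈ F a k b J n, ∃ h ∈ F a k b J n, e = X • f + Y • h}
  add_mem' := by
    rintro e e' ⟨f, hf, h, hh, rfl⟩ ⟨f', hf', h', hh', rfl⟩
    exact ⟨f + f', add_mem hf hf', h + h', add_mem hh hh', by simp only [smul_add]; abel⟩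
  zero_mem' := ⟨0, zero_mem _, 0, zero_mem _, by simp⟩
  smul_mem' := by
    rintro r e ⟨f, hf, h, hh, rfl⟩
    exact ⟨r • f, Submodule.smul_mem _ r hf, r • h, Submodule.smul_mem _ r hh,
      by rw [smul_add, smul_comm r X, smul_comm r Y]⟩

variable {a k b J}

theorem F_mono {n m : ℕ} (h : n ≤ m) : F a k b J m ≤ F a k b J n :=
  fun _ hv => ⟨fun i => Ideal.pow_le_pow_right h (hv.1 i), hv.2⟩

theorem W_le {X Y : A} {n : ℕ} : W a k b J X Y n ≤ F a k b J n := by
  rintro e ⟨f, hf, h, hh, rfl⟩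
  exact add_mem (Submodule.smul_mem _ _ hf) (Submodule.smul_mem _ _ hh)

theorem W_mono {X Y : A} {n m : ℕ} (hnm : n ≤ m) : W a k b J X Y m ≤ W a k b J X Y n := by
  rintro e ⟨f, hf, h, hh, rfl⟩
  exact ⟨f, F_mono hnm hf, h, F_mono hnm hh, rfl⟩

theorem pow_smul_F {p : A} {n m : ℕ} (hp : p ∈ J ^ m) {v : ι → A} (hv : v ∈ F a k b J n) :
    p • v ∈ F a k b J (m + n) :=
  ⟨fun i => by rw [pow_add]; exact Ideal.mul_mem_mul hp (hv.1 i), fun i j => by
    simp only [Pi.smul_apply, smul_eq_mul, mul_left_comm _ p, hv.2]⟩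

theorem isSol_of_mem {v : ι → A} (hv : v ∈ F a k b J 0) (K : Ideal A) : IsSol a k b K v :=
  fun i j => by rw [hv.2, sub_self]; exact K.zero_mem

/-- A filtration bounded by the adic one is eventually `J`-divisible. -/
theorem exists_stable [IsNoetherianRing A] (G : ℕ → Submodule A (ι → A)) (hmono : ∀ n, G (n + 1) ≤ G n)
    (hJ : ∀ n, J • G n ≤ G (n + 1)) (hle : ∀ n, ∀ v ∈ G n, ∀ i, v i ∈ J ^ n) :
    ∃ n₀, ∀ l, G (n₀ + l) = J ^ l • G n₀ := by
  classical
  let 𝔉 : J.Filtration (ι → A) := ⟨G, hmono, hJ⟩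
  have hst : 𝔉.Stable := (J.stableFiltration_stable (⊤ : Submodule A (ι → A))).of_le fun n v hv => by
    show v ∈ J ^ n • (⊤ : Submodule A (ι → A))
    have : v = ∑ i, v i • (Pi.single i (1 : A) : ι → A) := by
      funext j; simp [Finset.sum_apply, Pi.single_apply]
    rw [this]
    exact Submodule.sum_mem _ fun i _ => Submodule.smul_mem_smul (hle n v hv i) trivial
  exact hst.exists_pow_smul_eq

/-- The data. -/
structure Data (a : ι → A) (k : ι → ι → ℕ) (b : ι → ι → A) (J : Ideal A) (c : ι → A) [IsLocalRing A] : Prop where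
  ne_top : J ≠ ⊤
  basis : ∀ n, HasGrBasis J n
  cov : ∀ q : Ideal A, q.IsPrime → q ≠ maximalIdeal A → ∃ i, a i ∉ q
  loc : ∀ q : Ideal A, q.IsPrime → q ≠ maximalIdeal A → ∀ i, a i ∉ q → ∃ s ∈ F a k b J 0, s i ∉ q
  sol : IsSol a k b J c
  unit : ∀ q : Ideal A, q.IsPrime → q ≠ maximalIdeal A → J ≤ q → ∀ i, a i ∉ q → c i ∉ q
  prop : ∀ d, IsSol a k b J d → ∃ u, ∀ i, d i - u * c i ∈ J
  unique : ∀ u, (∀ i, u * c i ∈ J) → u ∈ J

variable [IsLocalRing A] {c : ι → A} (D : Data a k b J c)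
include D

theorem exists_symbol {n : ℕ} {v : ι → A} (hv : v ∈ F a k b J n) :
    ∃ u ∈ J ^ n, ∀ i, v i - u * c i ∈ J ^ (n + 1) := by
  obtain ⟨L, _, e, he, hspan, hind⟩ := D.basis n
  choose f hf using fun i => hspan _ (hv.1 i)
  have hs : ∀ l, IsSol a k b J (fun i => f i l) := fun l i j => by
    refine hind (fun l => a i ^ k i j * f j l - b i j * f i l) ?_ l
    have : ∑ l, (a i ^ k i j * f j l - b i j * f i l) * e l =
        -(a i ^ k i j * (v j - ∑ l, f j l * e l)) + b i j * (v i - ∑ l, f i l * e l) := by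
      simp only [sub_mul, Finset.sum_sub_distrib, mul_assoc, ← Finset.mul_sum]
      linear_combination hv.2 i j
    rw [this]
    exact Ideal.add_mem _ (neg_mem (Ideal.mul_mem_left _ _ (hf j))) (Ideal.mul_mem_left _ _ (hf i))
  choose u hu using fun l => D.prop _ (hs l)
  refine ⟨∑ l, u l * e l, Ideal.sum_mem _ fun l _ => Ideal.mul_mem_left _ _ (he l), fun i => ?_⟩
  have : v i - (∑ l, u l * e l) * c i = (v i - ∑ l, f i l * e l) + ∑ l, (f i l - u l * c i) * e l := by
    simp only [sub_mul, Finset.sum_sub_distrib, Finset.sum_mul]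
    rw [show ∑ l, u l * e l * c i = ∑ l, u l * c i * e l from Finset.sum_congr rfl fun l _ => by ring]
    ring
  rw [this]
  refine Ideal.add_mem _ (hf i) (Ideal.sum_mem _ fun l _ => ?_)
  rw [pow_succ']
  exact Ideal.mul_mem_mul (hu l i) (he l)

theorem unique_pow {n : ℕ} {u : A} (hu : u ∈ J ^ n) (h : ∀ i, u * c i ∈ J ^ (n + 1)) : u ∈ J ^ (n + 1) := by
  obtain ⟨L, _, e, he, hspan, hind⟩ := D.basis n
  obtain ⟨f, hf⟩ := hspan u hu
  have hfJ : ∀ l, f l ∈ J := fun l => D.unique _ fun i => by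
    refine hind (fun l => f l * c i) ?_ l
    have : ∑ l, f l * c i * e l = u * c i - c i * (u - ∑ l, f l * e l) := by
      rw [mul_sub, Finset.mul_sum, mul_comm u (c i), sub_sub_cancel]
      exact Finset.sum_congr rfl fun l _ => by ring
    rw [this]
    exact Ideal.sub_mem _ (h i) (Ideal.mul_mem_left _ _ hf)
  rw [show u = (u - ∑ l, f l * e l) + ∑ l, f l * e l by ring]
  refine Ideal.add_mem _ hf (Ideal.sum_mem _ fun l _ => ?_)
  rw [pow_succ']
  exact Ideal.mul_mem_mul (hfJ l) (he l)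

variable (a k b J c) in
omit D in
/-- Scalars `g` such that every multiple of `g c` lifts to a solution. -/
def liftIdeal : Ideal A where
  carrier := {g | ∃ s ∈ F a k b J 0, ∀ i, s i - g * c i ∈ J}
  add_mem' := by
    rintro g g' ⟨s, hs, h⟩ ⟨s', hs', h'⟩
    exact ⟨s + s', add_mem hs hs', fun i => by
      rw [show (s + s') i - (g + g') * c i = (s i - g * c i) + (s' i - g' * c i) by
        simp only [Pi.add_apply]; ring]
      exact J.add_mem (h i) (h' i)⟩
  zero_mem' := ⟨0, zero_mem _, fun i => by simp⟩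
  smul_mem' := by
    rintro r g ⟨s, hs, h⟩
    exact ⟨r • s, Submodule.smul_mem _ r hs, fun i => by
      rw [show (r • s) i - r • g * c i = r * (s i - g * c i) by simp only [Pi.smul_apply, smul_eq_mul]; ring]
      exact J.mul_mem_left _ (h i)⟩

omit D in
theorem exists_lift {g : A} (hg : g ∈ liftIdeal a k b J c) {n : ℕ} {p : A} (hp : p ∈ J ^ n) :
    ∃ f ∈ F a k b J n, ∀ i, f i - p * g * c i ∈ J ^ (n + 1) := by
  obtain ⟨s, hs, h⟩ := hg
  refine ⟨p • s, by simpa using pow_smul_F hp hs, fun i => ?_⟩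
  rw [show (p • s) i - p * g * c i = p * (s i - g * c i) by simp only [Pi.smul_apply, smul_eq_mul]; ring, pow_succ]
  exact Ideal.mul_mem_mul hp (h i)

theorem maximalIdeal_le_radical_lift : maximalIdeal A ≤ (liftIdeal a k b J c).radical := by
  rw [Ideal.radical_eq_sInf]
  refine le_sInf fun q hq => ?_
  obtain ⟨hle, hqp⟩ := hq
  by_contra hne
  have hqm : q ≠ maximalIdeal A := fun h => hne h.ge
  have hJq : J ≤ q := fun g hg => hle ⟨0, zero_mem _, fun i => by
    rw [Pi.zero_apply, zero_sub]; exact neg_mem (J.mul_mem_right _ hg)⟩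
  obtain ⟨i, hi⟩ := D.cov q hqp hqm
  obtain ⟨s, hs, hsi⟩ := D.loc q hqp hqm i hi
  obtain ⟨u, hu⟩ := D.prop s (isSol_of_mem hs J)
  refine hsi ?_
  rw [show s i = (s i - u * c i) + u * c i by ring]
  exact q.add_mem (hJq (hu i)) (q.mul_mem_right _ (hle ⟨s, hs, hu⟩))

variable (a k b J) in
omit D [IsLocalRing A] in
/-- Scalars multiplying a solution with coordinates in `(X, Y) J ^ n` into `X F_n + Y F_n`. -/
def contractIdeal : Ideal A where
  carrier := {g | ∀ (X Y : A) (n : ℕ), ∀ e ∈ F a k b J n,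
    (∀ i, ∃ p ∈ J ^ n, ∃ q ∈ J ^ n, e i = X * p + Y * q) → g • e ∈ W a k b J X Y n}
  add_mem' := fun {g g'} h h' X Y n e he hc => by
    rw [add_smul]; exact add_mem (h X Y n e he hc) (h' X Y n e he hc)
  zero_mem' := fun X Y n e _ _ => by rw [zero_smul]; exact zero_mem _
  smul_mem' := fun r g h X Y n e he hc => by
    rw [smul_eq_mul, mul_smul]; exact Submodule.smul_mem _ r (h X Y n e he hc)

omit D [IsLocalRing A] in
theorem mem_contractIdeal {s : ι → A} (hs : s ∈ F a k b J 0) (i : ι) :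
    (∏ j, a i ^ k i j) * s i ∈ contractIdeal a k b J := by
  classical
  intro X Y n e he hc
  obtain ⟨p, hp, q, hq, e1⟩ := hc i
  refine ⟨p • ((∏ j, a i ^ k i j) • s), by simpa using pow_smul_F hp (Submodule.smul_mem _ _ hs),
    q • ((∏ j, a i ^ k i j) • s), by simpa using pow_smul_F hq (Submodule.smul_mem _ _ hs), funext fun j => ?_⟩
  simp only [Pi.smul_apply, Pi.add_apply, smul_eq_mul]
  rw [← Finset.prod_erase_mul _ _ (Finset.mem_univ j)]
  linear_combination (∏ l ∈ Finset.univ.erase j, a i ^ k i l) *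
    (s i * he.2 i j - e i * hs.2 i j) + (∏ l ∈ Finset.univ.erase j, a i ^ k i l) * a i ^ k i j * s j * e1

theorem maximalIdeal_le_radical_contract : maximalIdeal A ≤ (contractIdeal a k b J).radical := by
  rw [Ideal.radical_eq_sInf]
  refine le_sInf fun q hq => ?_
  obtain ⟨hle, hqp⟩ := hq
  by_contra hne
  have hqm : q ≠ maximalIdeal A := fun h => hne h.ge
  obtain ⟨i, hi⟩ := D.cov q hqp hqm
  obtain ⟨s, hs, hsi⟩ := D.loc q hqp hqm i hi
  haveI := hqp
  rcases hqp.mem_or_mem (hle (mem_contractIdeal hs i)) with h | h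
  · obtain ⟨j, -, hj⟩ := (Ideal.IsPrime.prod_mem_iff).1 h
    exact hi (hqp.mem_of_pow_mem _ hj)
  · exact hsi h

variable [IsNoetherianRing A]

theorem exists_ideal : ∃ N : ℕ, maximalIdeal A ^ N ≤ liftIdeal a k b J c ⊓ contractIdeal a k b J := by
  refine Ideal.exists_pow_le_of_le_radical_of_fg ?_ (IsNoetherian.noetherian _)
  rw [Ideal.radical_inf]
  exact le_inf (maximalIdeal_le_radical_lift D) (maximalIdeal_le_radical_contract D)

theorem exchange {X Y : A} (h : RegPair J X Y) {n : ℕ} {u v : ι → A} (hv : v ∈ F a k b J n)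
    (e : X • u = Y • v) : ∃ w ∈ F a k b J n, v = X • w ∧ u = Y • w := by
  choose w hw hvw huw using fun i => h.exchange D.ne_top D.basis (hv.1 i) (congrFun e i)
  refine ⟨w, ⟨hw, fun i j => sub_eq_zero.1 (h.eq_zero D.ne_top D.basis ?_)⟩, funext hvw, funext huw⟩
  linear_combination hv.2 i j - a i ^ k i j * hvw j + b i j * hvw i

theorem mem_W_of_mul_mem {X Y Z : A} (h : RegTriple J X Y Z) {n : ℕ} {r : ι → A} (hr : r ∈ F a k b J n)
    (hm : (X * Y) • r ∈ W a k b J (X * X) (Y * Y) n) : r ∈ W a k b J X Y n := by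
  obtain ⟨P, hP, Q, hQ, e⟩ := hm
  obtain ⟨R, hR, -, h1⟩ := exchange D h.toRegPair.sq_snd (u := Y • r - X • P) hQ (by
    funext i
    have := congrFun e i
    simp only [Pi.smul_apply, Pi.add_apply, Pi.sub_apply, smul_eq_mul] at this ⊢
    linear_combination this)
  obtain ⟨T, hT, h2, -⟩ := exchange D h.toRegPair (u := P) (v := r - Y • R)
    (sub_mem hr (Submodule.smul_mem _ _ hR)) (by
      funext i
      have := congrFun h1 i
      simp only [Pi.smul_apply, Pi.sub_apply, smul_eq_mul] at this ⊢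
      linear_combination -this)
  exact ⟨T, hT, R, hR, by rw [← h2]; abel⟩

/-- The step: a class which is torsion modulo `(x, y)` moves one step down the filtration. -/
theorem step {N : ℕ} (hN : maximalIdeal A ^ N ≤ liftIdeal a k b J c ⊓ contractIdeal a k b J)
    {x y z : A} (hx : x ∈ maximalIdeal A ^ N) (hy : y ∈ maximalIdeal A ^ N) (hz : z ∈ maximalIdeal A ^ N)
    (h : RegTriple J x y z) {n : ℕ} {e : ι → A} (he : e ∈ F a k b J n)
    (hez : ∀ g ∈ maximalIdeal A ^ N, g • e ∈ W a k b J x y n) :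
    ∃ e' ∈ F a k b J (n + 1), (∀ g ∈ maximalIdeal A ^ N, g • e' ∈ W a k b J x y (n + 1)) ∧
      e - e' ∈ W a k b J x y n := by
  obtain ⟨u, hu, hu'⟩ := exists_symbol D he
  -- the symbol of `e` lies in `(x, y)`
  obtain ⟨α, hα, β, hβ, huαβ⟩ : ∃ α ∈ J ^ n, ∃ β ∈ J ^ n, u - x * α - y * β ∈ J ^ (n + 1) := by
    obtain ⟨f, hf, g, hg, efg⟩ := hez z hz
    obtain ⟨p, hp, hp'⟩ := exists_symbol D hf
    obtain ⟨q, hq, hq'⟩ := exists_symbol D hg
    have h1 : z * u - x * p - y * q ∈ J ^ (n + 1) := by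
      refine unique_pow D (Ideal.sub_mem _ (Ideal.sub_mem _ (Ideal.mul_mem_left _ _ hu)
        (Ideal.mul_mem_left _ _ hp)) (Ideal.mul_mem_left _ _ hq)) fun i => ?_
      have := congrFun efg i
      simp only [Pi.smul_apply, Pi.add_apply, smul_eq_mul] at this
      rw [show (z * u - x * p - y * q) * c i =
        -(z * (e i - u * c i)) + x * (f i - p * c i) + y * (g i - q * c i) by linear_combination this]
      exact Ideal.add_mem _ (Ideal.add_mem _ (neg_mem (Ideal.mul_mem_left _ _ (hu' i)))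
        (Ideal.mul_mem_left _ _ (hp' i))) (Ideal.mul_mem_left _ _ (hq' i))
    have h2 := (D.basis n).colon (I := Ideal.span {x} ⊔ Ideal.span {y}) h.thd hu (by
      rw [show z * u = (x * p + y * q) + (z * u - x * p - y * q) by ring, Ideal.sup_mul]
      exact Ideal.add_mem _ (Submodule.mem_sup_left (Ideal.add_mem _
        (Submodule.mem_sup_left (Ideal.mul_mem_mul (Ideal.mem_span_singleton_self x) hp))
        (Submodule.mem_sup_right (Ideal.mul_mem_mul (Ideal.mem_span_singleton_self y) hq)))) (Submodule.mem_sup_right h1))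
    rw [Ideal.sup_mul] at h2
    obtain ⟨m, hm, r, hr, hur⟩ := Submodule.mem_sup.1 h2
    obtain ⟨m₁, hm₁, m₂, hm₂, rfl⟩ := Submodule.mem_sup.1 hm
    obtain ⟨α, hα, rfl⟩ := Ideal.mem_span_singleton_mul.1 hm₁
    obtain ⟨β, hβ, rfl⟩ := Ideal.mem_span_singleton_mul.1 hm₂
    exact ⟨α, hα, β, hβ, by rw [← hur, show x * α + y * β + r - x * α - y * β = r by ring]; exact hr⟩
  obtain ⟨f₁, hf₁, hf₁'⟩ := exists_lift (hN hy).1 hα
  obtain ⟨f₂, hf₂, hf₂'⟩ := exists_lift (hN hx).1 hβ
  set e₂ : ι → A := (x * y) • e - (x * x) • f₁ - (y * y) • f₂ with he₂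
  have he₂F : e₂ ∈ F a k b J (n + 1) := by
    have h0 : e₂ ∈ F a k b J n := sub_mem (sub_mem (Submodule.smul_mem _ _ he)
      (Submodule.smul_mem _ _ hf₁)) (Submodule.smul_mem _ _ hf₂)
    refine ⟨fun i => ?_, h0.2⟩
    rw [show e₂ i = x * y * (e i - u * c i) - x * x * (f₁ i - α * y * c i) - y * y * (f₂ i - β * x * c i)
      + x * y * c i * (u - x * α - y * β) by
        simp only [he₂, Pi.sub_apply, Pi.smul_apply, smul_eq_mul]; ring]
    exact Ideal.add_mem _ (Ideal.sub_mem _ (Ideal.sub_mem _ (Ideal.mul_mem_left _ _ (hu' i))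
      (Ideal.mul_mem_left _ _ (hf₁' i))) (Ideal.mul_mem_left _ _ (hf₂' i))) (Ideal.mul_mem_left _ _ huαβ)
  -- `z² e₂` lies in `(x², y²) F_{n+1}`
  obtain ⟨f, hf, g, hg, efg⟩ := hez z hz
  let P : ι → A := y • f - z • f₁
  let Q : ι → A := x • g - z • f₂
  have hP : P ∈ F a k b J n := sub_mem (Submodule.smul_mem _ _ hf) (Submodule.smul_mem _ _ hf₁)
  have hQ : Q ∈ F a k b J n := sub_mem (Submodule.smul_mem _ _ hg) (Submodule.smul_mem _ _ hf₂)
  have hPQ : z • e₂ = (x * x) • P + (y * y) • Q := by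
    funext i
    have := congrFun efg i
    simp only [P, Q, he₂, Pi.smul_apply, Pi.add_apply, Pi.sub_apply, smul_eq_mul] at this ⊢
    linear_combination x * y * this
  obtain ⟨p, hp, hp'⟩ := exists_symbol D hP
  obtain ⟨q, hq, hq'⟩ := exists_symbol D hQ
  have hpq : x * x * p + y * y * q ∈ J ^ (n + 1) := by
    refine unique_pow D (Ideal.add_mem _ (Ideal.mul_mem_left _ _ hp) (Ideal.mul_mem_left _ _ hq)) fun i => ?_
    have := congrFun hPQ i
    simp only [Pi.smul_apply, Pi.add_apply, smul_eq_mul] at this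
    rw [show (x * x * p + y * y * q) * c i =
      z * e₂ i - x * x * (P i - p * c i) - y * y * (Q i - q * c i) by linear_combination -this]
    exact Ideal.sub_mem _ (Ideal.sub_mem _ (Ideal.mul_mem_left _ _ (he₂F.1 i))
      (Ideal.mul_mem_left _ _ (hp' i))) (Ideal.mul_mem_left _ _ (hq' i))
  obtain ⟨w, hw, hqw, hpw⟩ : ∃ w ∈ J ^ n, q + x * x * w ∈ J ^ (n + 1) ∧ p - y * y * w ∈ J ^ (n + 1) := by
    have hr := h.sq_pair
    have h2 := (D.basis n).colon hr.snd hq (by
      rw [show y * y * q = x * x * (-p) + (x * x * p + y * y * q) by ring]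
      exact Ideal.add_mem _ (Submodule.mem_sup_left (Ideal.mul_mem_mul (Ideal.mem_span_singleton_self _) (neg_mem hp)))
        (Submodule.mem_sup_right hpq))
    obtain ⟨m, hm, r, hr', hqr⟩ := Submodule.mem_sup.1 h2
    obtain ⟨w, hw, rfl⟩ := Ideal.mem_span_singleton_mul.1 hm
    refine ⟨-w, neg_mem hw, by rw [← hqr, show x * x * w + r + x * x * -w = r by ring]; exact hr', ?_⟩
    have h3 : x * x * (p + y * y * w) ∈ J ^ (n + 1) := by
      rw [show x * x * (p + y * y * w) = (x * x * p + y * y * q) - y * y * r by linear_combination (y * y) * hqr]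
      exact Ideal.sub_mem _ hpq (Ideal.mul_mem_left _ _ hr')
    have h4 := (D.basis n).colon (I := ⊥) (r := x * x) (by simpa using hr.fst)
      (Ideal.add_mem _ hp (Ideal.mul_mem_left _ _ hw)) (Submodule.mem_sup_right h3)
    simpa using h4
  obtain ⟨f₃, hf₃, hf₃'⟩ := exists_lift (hN hz).1 hw
  let P' : ι → A := z • P - (y * y) • f₃
  let Q' : ι → A := z • Q + (x * x) • f₃
  have hP' : ∀ i, P' i ∈ J ^ (n + 1) := fun i => by
    rw [show P' i = z * (P i - p * c i) + z * c i * (p - y * y * w) - y * y * (f₃ i - w * z * c i) by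
      simp only [P', Pi.sub_apply, Pi.smul_apply, smul_eq_mul]; ring]
    exact Ideal.sub_mem _ (Ideal.add_mem _ (Ideal.mul_mem_left _ _ (hp' i)) (Ideal.mul_mem_left _ _ hpw))
      (Ideal.mul_mem_left _ _ (hf₃' i))
  have hQ' : ∀ i, Q' i ∈ J ^ (n + 1) := fun i => by
    rw [show Q' i = z * (Q i - q * c i) + z * c i * (q + x * x * w) + x * x * (f₃ i - w * z * c i) by
      simp only [Q', Pi.add_apply, Pi.smul_apply, smul_eq_mul]; ring]
    exact Ideal.add_mem _ (Ideal.add_mem _ (Ideal.mul_mem_left _ _ (hq' i)) (Ideal.mul_mem_left _ _ hqw))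
      (Ideal.mul_mem_left _ _ (hf₃' i))
  have hsq := h.sq
  have hcoord : ∀ i, ∃ p ∈ J ^ (n + 1), ∃ q ∈ J ^ (n + 1), e₂ i = x * x * p + y * y * q := fun i => by
    have e3 : z * (z * e₂ i) = x * x * P' i + y * y * Q' i := by
      have := congrFun hPQ i
      simp only [P', Q', Pi.smul_apply, Pi.add_apply, Pi.sub_apply, smul_eq_mul] at this ⊢
      linear_combination z * this
    obtain ⟨p₁, -, q₁, -, e4⟩ := hsq.descend D.ne_top D.basis (Ideal.mul_mem_left _ z (he₂F.1 i)) e3
    exact hsq.descend D.ne_top D.basis (he₂F.1 i) e4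
  have htor : ∀ g ∈ maximalIdeal A ^ N, g • e₂ ∈ W a k b J (x * x) (y * y) (n + 1) :=
    fun g hg => (hN hg).2 _ _ _ _ he₂F hcoord
  -- descend from `(x², y²)` to `(x, y)`
  obtain ⟨U, hU, V, hV, eUV⟩ := htor x hx
  obtain ⟨w', hw', -, h1⟩ := exchange D h.toRegPair.sq_snd (u := e₂ - x • U) hV (by
    funext i
    have := congrFun eUV i
    simp only [Pi.smul_apply, Pi.add_apply, Pi.sub_apply, smul_eq_mul] at this ⊢
    linear_combination this)
  obtain ⟨P₂, hP₂, Q₂, hQ₂, ePQ₂⟩ := htor y hy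
  obtain ⟨r, hr, -, h2⟩ := exchange D h.toRegPair.sq_snd (u := y • U - x • P₂) (v := Q₂ - y • w')
    (sub_mem hQ₂ (Submodule.smul_mem _ _ hw')) (by
    funext i
    have e5 := congrFun ePQ₂ i
    have e6 := congrFun h1 i
    simp only [Pi.smul_apply, Pi.add_apply, Pi.sub_apply, smul_eq_mul] at e5 e6 ⊢
    linear_combination e5 - y * e6)
  obtain ⟨t, ht, h3, -⟩ := exchange D h.toRegPair (u := P₂) (v := U - y • r)
    (sub_mem hU (Submodule.smul_mem _ _ hr)) (by
      funext i
      have := congrFun h2 i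
      simp only [Pi.smul_apply, Pi.sub_apply, smul_eq_mul] at this ⊢
      linear_combination -this)
  have he₂r : e₂ = (x * x) • t + (x * y) • r + (y * y) • w' := by
    funext i
    have e6 := congrFun h1 i
    have e7 := congrFun h3 i
    simp only [Pi.smul_apply, Pi.add_apply, Pi.sub_apply, smul_eq_mul] at e6 e7 ⊢
    linear_combination e6 + x * e7
  refine ⟨r, hr, fun g hg => ?_, ?_⟩
  · refine mem_W_of_mul_mem D h (Submodule.smul_mem _ _ hr) ?_
    have : (x * y) • (g • r) = g • e₂ - ((x * x) • (g • t) + (y * y) • (g • w')) := by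
      rw [he₂r]; funext i; simp only [Pi.smul_apply, Pi.add_apply, Pi.sub_apply, smul_eq_mul]; ring
    rw [this]
    exact sub_mem (htor g hg) ⟨_, Submodule.smul_mem _ _ ht, _, Submodule.smul_mem _ _ hw', rfl⟩
  · refine mem_W_of_mul_mem D h (sub_mem he (F_mono (Nat.le_succ n) hr)) ?_
    exact ⟨f₁ + t, add_mem hf₁ (F_mono (Nat.le_succ n) ht), f₂ + w', add_mem hf₂ (F_mono (Nat.le_succ n) hw'), by
      funext i
      have := congrFun he₂r i
      simp only [he₂, Pi.smul_apply, Pi.add_apply, Pi.sub_apply, smul_eq_mul] at this ⊢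
      linear_combination this⟩

/-- The main theorem on coefficient systems. -/
theorem exists_unit_solution
    (hreg : ∀ N : ℕ, ∃ x y z, x ∈ maximalIdeal A ^ N ∧ y ∈ maximalIdeal A ^ N ∧ z ∈ maximalIdeal A ^ N ∧
      RegTriple J x y z) :
    ∃ w ∈ F a k b J 0, (∀ i, w i - c i ∈ J) ∧
      ∀ q : Ideal A, q.IsPrime → q ≠ maximalIdeal A → ∀ i, a i ∉ q → w i ∉ q := by
  obtain ⟨N, hN⟩ := exists_ideal D
  obtain ⟨x, y, z, hx, hy, hz, h⟩ := hreg N
  have hle : J ≤ maximalIdeal A := le_maximalIdeal D.ne_top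
  obtain ⟨fx, hfx, hfx'⟩ := exists_lift (hN hx).1 (show (1 : A) ∈ J ^ 0 by simp)
  obtain ⟨fy, hfy, hfy'⟩ := exists_lift (hN hy).1 (show (1 : A) ∈ J ^ 0 by simp)
  simp only [zero_add, pow_one, one_mul] at hfx' hfy'
  have he : y • fx - x • fy ∈ F a k b J 1 := by
    refine ⟨fun i => ?_, (sub_mem (Submodule.smul_mem _ _ hfx) (Submodule.smul_mem _ _ hfy)).2⟩
    rw [pow_one, show (y • fx - x • fy) i = y * (fx i - x * c i) - x * (fy i - y * c i) by
      simp only [Pi.sub_apply, Pi.smul_apply, smul_eq_mul]; ring]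
    exact J.sub_mem (J.mul_mem_left _ (hfx' i)) (J.mul_mem_left _ (hfy' i))
  have hez : ∀ g ∈ maximalIdeal A ^ N, g • (y • fx - x • fy) ∈ W a k b J x y 1 := by
    intro g hg
    obtain ⟨fg, hfg, hfg'⟩ := exists_lift (hN hg).1 (show (1 : A) ∈ J ^ 0 by simp)
    simp only [zero_add, pow_one, one_mul] at hfg'
    refine ⟨-(g • fy - y • fg), neg_mem ⟨fun i => ?_, (sub_mem (Submodule.smul_mem _ _ hfy) (Submodule.smul_mem _ _ hfg)).2⟩,
      g • fx - x • fg, ⟨fun i => ?_, (sub_mem (Submodule.smul_mem _ _ hfx) (Submodule.smul_mem _ _ hfg)).2⟩, ?_⟩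
    · rw [pow_one, show (g • fy - y • fg) i = g * (fy i - y * c i) - y * (fg i - g * c i) by
        simp only [Pi.sub_apply, Pi.smul_apply, smul_eq_mul]; ring]
      exact J.sub_mem (J.mul_mem_left _ (hfy' i)) (J.mul_mem_left _ (hfg' i))
    · rw [pow_one, show (g • fx - x • fg) i = g * (fx i - x * c i) - x * (fg i - g * c i) by
        simp only [Pi.sub_apply, Pi.smul_apply, smul_eq_mul]; ring]
      exact J.sub_mem (J.mul_mem_left _ (hfx' i)) (J.mul_mem_left _ (hfg' i))
    · funext i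
      simp only [Pi.sub_apply, Pi.add_apply, Pi.neg_apply, Pi.smul_apply, smul_eq_mul]
      ring
  -- push the class down the filtration
  let Z : ℕ → Submodule A (ι → A) := fun n =>
    F a k b J (n + 1) ⊓ ⨅ g : ↥(maximalIdeal A ^ N), (W a k b J x y (n + 1)).comap (LinearMap.lsmul A (ι → A) g.1)
  have hZ : ∀ n v, v ∈ Z n ↔ v ∈ F a k b J (n + 1) ∧ ∀ g ∈ maximalIdeal A ^ N, g • v ∈ W a k b J x y (n + 1) := by
    intro n v
    simp only [Z, Submodule.mem_inf, Submodule.mem_iInf, Submodule.mem_comap, LinearMap.lsmul_apply, Subtype.forall]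
  have hdown : ∀ n, ∃ v ∈ Z n, (y • fx - x • fy) - v ∈ W a k b J x y 1 := by
    intro n
    induction n with
    | zero => exact ⟨_, (hZ 0 _).2 ⟨he, hez⟩, by rw [sub_self]; exact zero_mem _⟩
    | succ n ih =>
      obtain ⟨v, hv, hev⟩ := ih
      obtain ⟨hv1, hv2⟩ := (hZ n v).1 hv
      obtain ⟨v', hv', hv'', hd⟩ := step D hN hx hy hz h hv1 hv2
      refine ⟨v', (hZ (n + 1) v').2 ⟨hv', hv''⟩, ?_⟩
      rw [show y • fx - x • fy - v' = (y • fx - x • fy - v) + (v - v') by abel]
      exact add_mem hev (W_mono (by omega) hd)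
  obtain ⟨n₀, hn₀⟩ := exists_stable (J := J) Z
    (fun n v hv => by
      obtain ⟨h1, h2⟩ := (hZ _ v).1 hv
      exact (hZ _ v).2 ⟨F_mono (by omega) h1, fun g hg => W_mono (by omega) (h2 g hg)⟩)
    (fun n => Submodule.smul_le.2 fun p hp v hv => by
      obtain ⟨h1, h2⟩ := (hZ n v).1 hv
      refine (hZ _ _).2 ⟨by rw [add_comm (n + 1) 1]; exact pow_smul_F (by rwa [pow_one]) h1, fun g hg => ?_⟩
      obtain ⟨f, hf, g', hg', efg⟩ := h2 g hg
      refine ⟨p • f, by rw [add_comm (n + 1) 1]; exact pow_smul_F (by rwa [pow_one]) hf,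
        p • g', by rw [add_comm (n + 1) 1]; exact pow_smul_F (by rwa [pow_one]) hg', ?_⟩
      rw [smul_comm g p, efg, smul_add, smul_comm p x, smul_comm p y])
    (fun n v hv i => Ideal.pow_le_pow_right (Nat.le_succ n) (((hZ n v).1 hv).1.1 i))
  obtain ⟨v, hv, hev⟩ := hdown (n₀ + N)
  rw [hn₀ N] at hv
  have hvW : v ∈ W a k b J x y 1 := by
    refine (Submodule.smul_le.2 fun g hg v' hv' => ?_ : J ^ N • Z n₀ ≤ W a k b J x y 1) hv
    exact W_mono (by omega) (((hZ n₀ v').1 hv').2 g (Ideal.pow_right_mono hle N hg))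
  obtain ⟨U, hU, V, hV, eUV⟩ : y • fx - x • fy ∈ W a k b J x y 1 := by
    rw [show y • fx - x • fy = (y • fx - x • fy - v) + v by abel]; exact add_mem hev hvW
  obtain ⟨w, hw, hxw, -⟩ := exchange D h.toRegPair (u := fy + U) (v := fx - V)
    (sub_mem hfx (F_mono (Nat.zero_le 1) hV)) (by
      funext i
      have := congrFun eUV i
      simp only [Pi.smul_apply, Pi.add_apply, Pi.sub_apply, smul_eq_mul] at this ⊢
      linear_combination -this)
  have hwc : ∀ i, w i - c i ∈ J := fun i => h.fst _ (by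
    have := congrFun hxw i
    simp only [Pi.smul_apply, Pi.sub_apply, smul_eq_mul] at this
    rw [show x * (w i - c i) = (fx i - x * c i) - V i by linear_combination -this]
    exact J.sub_mem (hfx' i) (by simpa using hV.1 i))
  refine ⟨w, hw, hwc, ?_⟩
  -- `w` generates all solutions
  have hgen : ∀ n, F a k b J 0 ≤ Submodule.span A {w} ⊔ F a k b J n := by
    intro n
    induction n with
    | zero => exact le_sup_right
    | succ n ih =>
      refine ih.trans (sup_le le_sup_left fun v hv => ?_)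
      obtain ⟨u, hu, hu'⟩ := exists_symbol D hv
      rw [show v = u • w + (v - u • w) by abel]
      refine Submodule.add_mem_sup (Submodule.smul_mem _ u (Submodule.mem_span_singleton_self w)) ⟨fun i => ?_,
        (sub_mem (F_mono (Nat.zero_le n) hv) (Submodule.smul_mem _ u hw)).2⟩
      rw [show (v - u • w) i = (v i - u * c i) - u * (w i - c i) by
        simp only [Pi.sub_apply, Pi.smul_apply, smul_eq_mul]; ring]
      exact Ideal.sub_mem _ (hu' i) (by rw [pow_succ]; exact Ideal.mul_mem_mul hu (hwc i))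
  obtain ⟨n₁, hn₁⟩ := exists_stable (J := J) (F a k b J) (fun n => F_mono (Nat.le_succ n))
    (fun n => Submodule.smul_le.2 fun p hp v hv => by
      rw [add_comm n 1]; exact pow_smul_F (by rwa [pow_one]) hv)
    (fun n v hv i => hv.1 i)
  have hall : F a k b J 0 ≤ Submodule.span A {w} := by
    refine Submodule.le_of_le_smul_of_le_jacobson_bot (IsNoetherian.noetherian _)
      (hle.trans (IsLocalRing.maximalIdeal_le_jacobson _)) ((hgen (n₁ + 1)).trans (sup_le_sup_left ?_ _))
    rw [hn₁ 1, pow_one]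
    exact Submodule.smul_mono le_rfl (F_mono (Nat.zero_le n₁))
  intro q hq hqm i hi hwi
  obtain ⟨s, hs, hsi⟩ := D.loc q hq hqm i hi
  obtain ⟨r, rfl⟩ := Submodule.mem_span_singleton.1 (hall hs)
  exact hsi (q.mul_mem_left _ hwi)

end GrDepthPicLib
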