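import Groth.Agent.CommAlgDim.Depth
import Mathlib

/-! Regular sequences modulo an ideal with free associated graded pieces. -/

set_option autoImplicit false
set_option maxHeartbeats 1000000

universe u

open IsLocalRing

namespace GrDepthPicLib

variable {A : Type u} [CommRing A] (J : Ideal A)

/-- The `n`-th graded piece of `J` has a finite basis over `A/J`. -/
def HasGrBasis (n : ℕ) : Prop :=
  ∃ (L : Type u) (_ : Fintype L) (e : L → A), (∀ l, e l ∈ J ^ n) ∧
    (∀ w ∈ J ^ n, ∃ f : L → A, w - ∑ l, f l * e l ∈ J ^ (n + 1)) ∧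
    (∀ f : L → A, ∑ l, f l * e l ∈ J ^ (n + 1) → ∀ l, f l ∈ J)

variable {J}

theorem HasGrBasis.colon {n : ℕ} (h : HasGrBasis J n) {I : Ideal A} {r : A}
    (hr : ∀ t, r * t ∈ I ⊔ J → t ∈ I ⊔ J) {w : A} (hw : w ∈ J ^ n)
    (hrw : r * w ∈ I * J ^ n ⊔ J ^ (n + 1)) : w ∈ I * J ^ n ⊔ J ^ (n + 1) := by
  classical
  obtain ⟨L, _, e, he, hspan, hind⟩ := h
  have key : ∀ z ∈ I * J ^ n, ∃ f : L → A, (∀ l, f l ∈ I) ∧ z - ∑ l, f l * e l ∈ J ^ (n + 1) := by
    intro z hz
    refine Submodule.mul_induction_on hz (fun i hi v hv => ?_) (fun a b ⟨f, hf, ha⟩ ⟨g, hg, hb⟩ => ?_)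
    · obtain ⟨f, hf⟩ := hspan v hv
      refine ⟨fun l => i * f l, fun l => I.mul_mem_right _ hi, ?_⟩
      have : i * v - ∑ l, i * f l * e l = i * (v - ∑ l, f l * e l) := by
        simp only [mul_sub, Finset.mul_sum, mul_assoc]
      rw [this]
      exact Ideal.mul_mem_left _ _ hf
    · refine ⟨f + g, fun l => I.add_mem (hf l) (hg l), ?_⟩
      have : a + b - ∑ l, (f + g) l * e l = (a - ∑ l, f l * e l) + (b - ∑ l, g l * e l) := by
        simp only [Pi.add_apply, add_mul, Finset.sum_add_distrib]; ring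
      rw [this]
      exact Ideal.add_mem _ ha hb
  obtain ⟨f, hf⟩ := hspan w hw
  obtain ⟨z, hz, z', hz', hzz⟩ := Submodule.mem_sup.1 hrw
  obtain ⟨g, hg, hgz⟩ := key z hz
  have h2 : ∀ l, f l ∈ I ⊔ J := by
    have hsum : ∑ l, (r * f l - g l) * e l ∈ J ^ (n + 1) := by
      have : ∑ l, (r * f l - g l) * e l =
          (z - ∑ l, g l * e l) + z' - r * (w - ∑ l, f l * e l) := by
        simp only [sub_mul, Finset.sum_sub_distrib, mul_assoc, ← Finset.mul_sum]
        linear_combination -hzz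
      rw [this]
      exact Ideal.sub_mem _ (Ideal.add_mem _ hgz hz') (Ideal.mul_mem_left _ _ hf)
    intro l
    refine hr _ ?_
    have h3 := hind _ hsum l
    have : r * f l = (r * f l - g l) + g l := by ring
    rw [this]
    exact Ideal.add_mem _ (Submodule.mem_sup_right h3) (Submodule.mem_sup_left (hg l))
  have h4 : ∑ l, f l * e l ∈ I * J ^ n ⊔ J ^ (n + 1) := by
    refine Ideal.sum_mem _ fun l _ => ?_
    obtain ⟨i, hi, j, hj, hij⟩ := Submodule.mem_sup.1 (h2 l)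
    rw [← hij, add_mul]
    refine Ideal.add_mem _ (Submodule.mem_sup_left (Ideal.mul_mem_mul hi (he l))) (Submodule.mem_sup_right ?_)
    rw [pow_succ']
    exact Ideal.mul_mem_mul hj (he l)
  have : w = (w - ∑ l, f l * e l) + ∑ l, f l * e l := by ring
  rw [this]
  exact Ideal.add_mem _ (Submodule.mem_sup_right hf) h4

variable [IsNoetherianRing A] [IsLocalRing A]

theorem mem_of_forall_mem_sup_pow (hJ : J ≠ ⊤) {I : Ideal A} {w : A} (h : ∀ n : ℕ, w ∈ I ⊔ J ^ n) : w ∈ I := by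
  have h1 : Submodule.Quotient.mk w ∈ (⨅ n : ℕ, J ^ n • ⊤ : Submodule A (A ⧸ I)) := by
    refine Submodule.mem_iInf _ |>.2 fun n => ?_
    obtain ⟨i, hi, v, hv, rfl⟩ := Submodule.mem_sup.1 (h n)
    rw [Submodule.Quotient.mk_add, (Submodule.Quotient.mk_eq_zero I).2 hi, zero_add]
    have : (Submodule.Quotient.mk v : A ⧸ I) = v • Submodule.Quotient.mk (1 : A) := by
      rw [← Submodule.Quotient.mk_smul, smul_eq_mul, mul_one]
    rw [this]
    exact Submodule.smul_mem_smul hv trivial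
  rw [Ideal.iInf_pow_smul_eq_bot_of_isLocalRing (M := A ⧸ I) J hJ, Submodule.mem_bot,
    Submodule.Quotient.mk_eq_zero] at h1
  exact h1

/-- The step of the recursion along a regular sequence. -/
theorem next (hJ : J ≠ ⊤) (hB : ∀ n, HasGrBasis J n) {I : Ideal A} {r : A}
    (hI : ∀ n, I ⊓ J ^ n ≤ I * J ^ n) (hr : ∀ t, r * t ∈ I ⊔ J → t ∈ I ⊔ J) :
    (∀ t, r * t ∈ I → t ∈ I) ∧ ∀ n, (I ⊔ Ideal.span {r}) ⊓ J ^ n ≤ (I ⊔ Ideal.span {r}) * J ^ n := by
  have ha : ∀ n t, r * t ∈ I ⊔ J ^ n → t ∈ I ⊔ J ^ n := by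
    intro n
    induction n with
    | zero => intro t _; simp
    | succ n ih =>
      intro t ht
      obtain ⟨i, hi, v, hv, rfl⟩ := Submodule.mem_sup.1 (ih t
        (sup_le_sup_left (Ideal.pow_le_pow_right (Nat.le_succ n)) I ht))
      obtain ⟨i', hi', v', hv', e⟩ := Submodule.mem_sup.1 ht
      have h1 : r * v ∈ I * J ^ n ⊔ J ^ (n + 1) := by
        have h2 : r * v - v' ∈ I ⊓ J ^ n := by
          refine ⟨?_, Ideal.sub_mem _ (Ideal.mul_mem_left _ _ hv) (Ideal.pow_le_pow_right (Nat.le_succ n) hv')⟩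
          have : r * v - v' = i' - r * i := by linear_combination -e
          show r * v - v' ∈ I
          rw [this]
          exact I.sub_mem hi' (I.mul_mem_left _ hi)
        have : r * v = (r * v - v') + v' := by ring
        rw [this]
        exact Ideal.add_mem _ (Submodule.mem_sup_left (hI n h2)) (Submodule.mem_sup_right hv')
      refine Ideal.add_mem _ (Submodule.mem_sup_left hi) ?_
      have hle : I * J ^ n ⊔ J ^ (n + 1) ≤ I ⊔ J ^ (n + 1) := sup_le_sup_right Ideal.mul_le_left _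
      exact hle ((hB n).colon hr hv h1)
  refine ⟨fun t ht => mem_of_forall_mem_sup_pow hJ fun n => ha n t (Submodule.mem_sup_left ht), fun n z hz => ?_⟩
  obtain ⟨hz1, hz2⟩ := hz
  obtain ⟨i, hi, w, hw, rfl⟩ := Submodule.mem_sup.1 hz1
  obtain ⟨u, rfl⟩ := Ideal.mem_span_singleton'.1 hw
  obtain ⟨i', hi', u', hu', rfl⟩ := Submodule.mem_sup.1 (ha n u (by
    have : r * u = -i + (i + u * r) := by ring
    rw [this]
    exact Ideal.add_mem _ (Submodule.mem_sup_left (I.neg_mem hi)) (Submodule.mem_sup_right hz2)))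
  have h3 : i + r * i' ∈ I ⊓ J ^ n := by
    refine ⟨I.add_mem hi (I.mul_mem_left _ hi'), ?_⟩
    have : i + r * i' = (i + (i' + u') * r) - r * u' := by ring
    show i + r * i' ∈ J ^ n
    rw [this]
    exact Ideal.sub_mem _ hz2 (Ideal.mul_mem_left _ _ hu')
  have : i + (i' + u') * r = (i + r * i') + r * u' := by ring
  rw [this, Ideal.sup_mul]
  exact Ideal.add_mem _ (Submodule.mem_sup_left (hI n h3))
    (Submodule.mem_sup_right (Ideal.mul_mem_mul (Ideal.mem_span_singleton_self r) hu'))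

variable (J)

/-- A pair which is regular modulo `J`. -/
structure RegPair (X Y : A) : Prop where
  fst : ∀ t, X * t ∈ J → t ∈ J
  snd : ∀ t, Y * t ∈ Ideal.span {X} ⊔ J → t ∈ Ideal.span {X} ⊔ J

/-- A triple which is regular modulo `J`. -/
structure RegTriple (X Y Z : A) : Prop extends RegPair J X Y where
  thd : ∀ t, Z * t ∈ Ideal.span {X} ⊔ Ideal.span {Y} ⊔ J → t ∈ Ideal.span {X} ⊔ Ideal.span {Y} ⊔ J

variable {J}

theorem RegPair.eq_zero (hJ : J ≠ ⊤) (hB : ∀ n, HasGrBasis J n) {X Y : A} (h : RegPair J X Y) {t : A}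
    (ht : X * t = 0) : t = 0 :=
  (Submodule.mem_bot A).1 ((next hJ hB (I := ⊥) (fun n => by simp) (by simpa using h.fst)).1 t
    ((Submodule.mem_bot A).2 ht))

theorem RegPair.inter (hJ : J ≠ ⊤) (hB : ∀ n, HasGrBasis J n) {X Y : A} (h : RegPair J X Y) (n : ℕ) :
    Ideal.span {X} ⊓ J ^ n ≤ Ideal.span {X} * J ^ n := by
  simpa using (next hJ hB (I := ⊥) (fun n => by simp) (by simpa using h.fst)).2 n

theorem RegPair.exchange (hJ : J ≠ ⊤) (hB : ∀ n, HasGrBasis J n) {X Y : A} (h : RegPair J X Y) {n : ℕ}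
    {u v : A} (hv : v ∈ J ^ n) (e : X * u = Y * v) : ∃ w ∈ J ^ n, v = X * w ∧ u = Y * w := by
  have h1 : v ∈ Ideal.span {X} := (next hJ hB (h.inter hJ hB) h.snd).1 v
    (by rw [← e]; exact Ideal.mul_mem_right _ _ (Ideal.mem_span_singleton_self X))
  obtain ⟨w, hw, hvw⟩ := Ideal.mem_span_singleton_mul.1 (h.inter hJ hB n ⟨h1, hv⟩)
  refine ⟨w, hw, hvw.symm, sub_eq_zero.1 (h.eq_zero hJ hB ?_)⟩
  linear_combination e - Y * hvw

theorem RegTriple.descend (hJ : J ≠ ⊤) (hB : ∀ n, HasGrBasis J n) {X Y Z : A} (h : RegTriple J X Y Z) {n : ℕ}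
    {e p q : A} (he : e ∈ J ^ n) (eq : Z * e = X * p + Y * q) :
    ∃ p' ∈ J ^ n, ∃ q' ∈ J ^ n, e = X * p' + Y * q' := by
  have hI := (next hJ hB (h.toRegPair.inter hJ hB) h.snd).2
  have h1 : e ∈ Ideal.span {X} ⊔ Ideal.span {Y} := (next hJ hB hI h.thd).1 e (by
    rw [eq]
    exact Ideal.add_mem _ (Submodule.mem_sup_left (Ideal.mul_mem_right _ _ (Ideal.mem_span_singleton_self X)))
      (Submodule.mem_sup_right (Ideal.mul_mem_right _ _ (Ideal.mem_span_singleton_self Y))))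
  have h2 := hI n ⟨h1, he⟩
  rw [Ideal.sup_mul] at h2
  obtain ⟨a, ha, b, hb, hab⟩ := Submodule.mem_sup.1 h2
  obtain ⟨p', hp', rfl⟩ := Ideal.mem_span_singleton_mul.1 ha
  obtain ⟨q', hq', rfl⟩ := Ideal.mem_span_singleton_mul.1 hb
  exact ⟨p', hp', q', hq', hab.symm⟩

omit [IsNoetherianRing A] [IsLocalRing A] in
theorem mem_span_sup {X t : A} : t ∈ Ideal.span {X} ⊔ J ↔ ∃ a, t - X * a ∈ J := by
  constructor
  · intro h
    obtain ⟨i, hi, j, hj, rfl⟩ := Submodule.mem_sup.1 h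
    obtain ⟨a, rfl⟩ := Ideal.mem_span_singleton'.1 hi
    exact ⟨a, by rw [show a * X + j - X * a = j by ring]; exact hj⟩
  · rintro ⟨a, ha⟩
    rw [show t = X * a + (t - X * a) by ring]
    exact Ideal.add_mem _ (Submodule.mem_sup_left (Ideal.mul_mem_right _ _ (Ideal.mem_span_singleton_self X)))
      (Submodule.mem_sup_right ha)

omit [IsNoetherianRing A] [IsLocalRing A] in
theorem mem_span_span_sup {X Y t : A} :
    t ∈ Ideal.span {X} ⊔ Ideal.span {Y} ⊔ J ↔ ∃ a b, t - X * a - Y * b ∈ J := by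
  constructor
  · intro h
    obtain ⟨i, hi, j, hj, rfl⟩ := Submodule.mem_sup.1 h
    obtain ⟨i₁, h₁, i₂, h₂, rfl⟩ := Submodule.mem_sup.1 hi
    obtain ⟨a, rfl⟩ := Ideal.mem_span_singleton'.1 h₁
    obtain ⟨b, rfl⟩ := Ideal.mem_span_singleton'.1 h₂
    exact ⟨a, b, by rw [show a * X + b * Y + j - X * a - Y * b = j by ring]; exact hj⟩
  · rintro ⟨a, b, ha⟩
    rw [show t = (X * a + Y * b) + (t - X * a - Y * b) by ring]
    refine Ideal.add_mem _ (Submodule.mem_sup_left (Ideal.add_mem _ ?_ ?_)) (Submodule.mem_sup_right ha)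
    · exact Submodule.mem_sup_left (Ideal.mul_mem_right _ _ (Ideal.mem_span_singleton_self X))
    · exact Submodule.mem_sup_right (Ideal.mul_mem_right _ _ (Ideal.mem_span_singleton_self Y))

omit [IsNoetherianRing A] [IsLocalRing A] in
theorem RegPair.sq_snd {X Y : A} (h : RegPair J X Y) : RegPair J X (Y * Y) :=
  ⟨h.fst, fun t ht => h.snd t (h.snd _ (by rw [← mul_assoc]; exact ht))⟩

omit [IsNoetherianRing A] [IsLocalRing A] in
theorem RegTriple.sq_pair {X Y Z : A} (h : RegTriple J X Y Z) : RegPair J (X * X) (Y * Y) := by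
  refine ⟨fun t ht => h.fst t (h.fst _ (by rw [← mul_assoc]; exact ht)), fun t ht => ?_⟩
  have h2 := h.toRegPair.sq_snd
  obtain ⟨c, hc⟩ := mem_span_sup.1 ht
  obtain ⟨a, ha⟩ := mem_span_sup.1 (h2.snd t (mem_span_sup.2 ⟨X * c, by
    rw [show Y * Y * t - X * (X * c) = Y * Y * t - X * X * c by ring]; exact hc⟩))
  have h3 : Y * Y * a - X * c ∈ J := h.fst _ (by
    rw [show X * (Y * Y * a - X * c) = (Y * Y * t - X * X * c) - Y * Y * (t - X * a) by ring]
    exact J.sub_mem hc (J.mul_mem_left _ ha))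
  obtain ⟨a', ha'⟩ := mem_span_sup.1 (h2.snd a (mem_span_sup.2 ⟨c, h3⟩))
  refine mem_span_sup.2 ⟨a', ?_⟩
  rw [show t - X * X * a' = (t - X * a) + X * (a - X * a') by ring]
  exact J.add_mem ha (J.mul_mem_left _ ha')

omit [IsNoetherianRing A] [IsLocalRing A] in
theorem RegTriple.sq_snd {X Y Z : A} (h : RegTriple J X Y Z) : RegTriple J X (Y * Y) Z := by
  refine ⟨h.toRegPair.sq_snd, fun t ht => ?_⟩
  obtain ⟨c, d, hc⟩ := mem_span_span_sup.1 ht
  obtain ⟨a, b, ha⟩ := mem_span_span_sup.1 (h.thd t (mem_span_span_sup.2 ⟨c, Y * d, by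
    rw [show Z * t - X * c - Y * (Y * d) = Z * t - X * c - Y * Y * d by ring]; exact hc⟩))
  obtain ⟨q, hq⟩ := mem_span_sup.1 (h.snd (Z * b - Y * d) (mem_span_sup.2 ⟨c - Z * a, by
    rw [show Y * (Z * b - Y * d) - X * (c - Z * a) = (Z * t - X * c - Y * Y * d) - Z * (t - X * a - Y * b) by ring]
    exact J.sub_mem hc (J.mul_mem_left _ ha)⟩))
  obtain ⟨b1, b2, hb⟩ := mem_span_span_sup.1 (h.thd b (mem_span_span_sup.2 ⟨q, d, by
    rw [show Z * b - X * q - Y * d = Z * b - Y * d - X * q by ring]; exact hq⟩))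
  refine mem_span_span_sup.2 ⟨a + Y * b1, b2, ?_⟩
  rw [show t - X * (a + Y * b1) - Y * Y * b2 = (t - X * a - Y * b) + Y * (b - X * b1 - Y * b2) by ring]
  exact J.add_mem ha (J.mul_mem_left _ hb)

omit [IsNoetherianRing A] [IsLocalRing A] in
theorem RegTriple.sq {X Y Z : A} (h : RegTriple J X Y Z) : RegTriple J (X * X) (Y * Y) Z := by
  refine ⟨h.sq_pair, fun t ht => ?_⟩
  have h' := h.sq_snd
  obtain ⟨c, d, hc⟩ := mem_span_span_sup.1 ht
  obtain ⟨a, b, ha⟩ := mem_span_span_sup.1 (h'.thd t (mem_span_span_sup.2 ⟨X * c, d, by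
    rw [show Z * t - X * (X * c) - Y * Y * d = Z * t - X * X * c - Y * Y * d by ring]; exact hc⟩))
  have h1 : X * (Z * a - X * c) + Y * Y * (Z * b - d) ∈ J := by
    rw [show X * (Z * a - X * c) + Y * Y * (Z * b - d) =
      (Z * t - X * X * c - Y * Y * d) - Z * (t - X * a - Y * Y * b) by ring]
    exact J.sub_mem hc (J.mul_mem_left _ ha)
  obtain ⟨v, hv⟩ := mem_span_sup.1 (h'.snd (Z * b - d) (mem_span_sup.2 ⟨-(Z * a - X * c), by
    rw [show Y * Y * (Z * b - d) - X * -(Z * a - X * c) = X * (Z * a - X * c) + Y * Y * (Z * b - d) by ring]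
    exact h1⟩))
  have h2 : Z * a - X * c + Y * Y * v ∈ J := h.fst _ (by
    rw [show X * (Z * a - X * c + Y * Y * v) =
      (X * (Z * a - X * c) + Y * Y * (Z * b - d)) - Y * Y * (Z * b - d - X * v) by ring]
    exact J.sub_mem h1 (J.mul_mem_left _ hv))
  obtain ⟨a1, a2, ha'⟩ := mem_span_span_sup.1 (h'.thd a (mem_span_span_sup.2 ⟨c, -v, by
    rw [show Z * a - X * c - Y * Y * -v = Z * a - X * c + Y * Y * v by ring]; exact h2⟩))
  refine mem_span_span_sup.2 ⟨a1, X * a2 + b, ?_⟩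
  rw [show t - X * X * a1 - Y * Y * (X * a2 + b) = (t - X * a - Y * Y * b) + X * (a - X * a1 - Y * Y * a2) by ring]
  exact J.add_mem ha (J.mul_mem_left _ ha')

end GrDepthPicLib
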