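import Groth.Agent.GrDepthPicLib.Regular
import Groth.Agent.CommAlgDim.Depth
import Mathlib

/-! Regular triples from depth, and bases of graded pieces. -/

set_option autoImplicit false
set_option maxHeartbeats 1000000

universe u

open IsLocalRing RingTheory.Sequence CommAlgDim

namespace GrDepthPicLib

variable {A : Type u} [CommRing A] [IsNoetherianRing A] [IsLocalRing A] (J : Ideal A)

theorem exists_regTriple [IsLocalRing (A ⧸ J)] (hd : (3 : ℕ∞) ≤ LocCoh.depth (A ⧸ J) (A ⧸ J)) (N : ℕ) :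
    ∃ x y z, x ∈ maximalIdeal A ^ N ∧ y ∈ maximalIdeal A ^ N ∧ z ∈ maximalIdeal A ^ N ∧ RegTriple J x y z := by
  let π := Ideal.Quotient.mk J
  have hmax : (maximalIdeal A).map π = maximalIdeal (A ⧸ J) := IsLocalRing.map_maximalIdeal_of_surjective π Ideal.Quotient.mk_surjective
  have h3 : HasSeqIn (maximalIdeal (A ⧸ J)) (A ⧸ J) 3 := (le_depth_iff 3).1 (by exact_mod_cast hd)
  have h4 : HasSeqIn ((maximalIdeal A ^ N).map π) (A ⧸ J) 3 :=
    hasSeqIn_of_forall_localization 3 _ fun p hp hle => h3.localization (by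
      rw [Ideal.map_pow, hmax] at hle
      rcases Nat.eq_zero_or_pos N with rfl | hN
      · exact absurd (top_le_iff.1 (by simpa using hle)) hp.ne_top
      · exact fun v hv => hp.mem_of_pow_mem N (hle (Ideal.pow_mem_pow hv N)))
  obtain ⟨rs, hl, hm, hr⟩ := h4
  obtain ⟨x', y', z', rfl⟩ := List.length_eq_three.1 hl
  obtain ⟨x, hx, rfl⟩ := (Ideal.mem_map_iff_of_surjective π Ideal.Quotient.mk_surjective).1 (hm _ (List.mem_cons_self ..))
  obtain ⟨y, hy, rfl⟩ := (Ideal.mem_map_iff_of_surjective π Ideal.Quotient.mk_surjective).1 (hm y' (by simp))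
  obtain ⟨z, hz, rfl⟩ := (Ideal.mem_map_iff_of_surjective π Ideal.Quotient.mk_surjective).1 (hm z' (by simp))
  rw [isWeaklyRegular_iff_Fin] at hr
  have key : ∀ (K : Ideal (A ⧸ J)) (I : Ideal A) (r t : A), K = I.map π →
      IsSMulRegular ((A ⧸ J) ⧸ (K • ⊤ : Submodule (A ⧸ J) (A ⧸ J))) (π r) →
      r * t ∈ I ⊔ J → t ∈ I ⊔ J := by
    intro K I r t hK hreg ht
    subst hK
    have he : (I ⊔ J).map π = I.map π := by rw [Ideal.map_sup, Ideal.map_quotient_self, sup_bot_eq]
    rw [isSMulRegular_quotient_iff_mem_of_smul_mem] at hreg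
    have h1 : π t ∈ (I.map π • ⊤ : Submodule (A ⧸ J) (A ⧸ J)) := hreg (π t) (by
      simp only [smul_eq_mul, Ideal.mul_top, ← map_mul]; rw [← he]; exact Ideal.mem_map_of_mem π ht)
    rw [smul_eq_mul, Ideal.mul_top, ← he] at h1
    have h2 : t ∈ ((I ⊔ J).map π).comap π := h1
    rwa [Ideal.comap_map_mk le_sup_right] at h2
  refine ⟨x, y, z, hx, hy, hz, ⟨⟨fun t ht => ?_, fun t ht => key _ _ y t ?_ (hr ⟨1, by simp⟩) ht⟩,
    fun t ht => key _ _ z t ?_ (hr ⟨2, by simp⟩) ht⟩⟩
  · have h0 := key _ ⊥ x t (by simp) (hr ⟨0, by simp⟩) (by simpa using ht)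
    simpa using h0
  · simp [Ideal.map_span, Ideal.ofList_cons, Ideal.ofList_nil, π]
  · simp [Ideal.map_span, Ideal.map_sup, Ideal.ofList_cons, Ideal.ofList_nil, π]

theorem le_depth_of_regTriple (hJ : J ≠ ⊤) (hB : ∀ n, HasGrBasis J n) {x y z : A} (hx : x ∈ maximalIdeal A)
    (hy : y ∈ maximalIdeal A) (hz : z ∈ maximalIdeal A) (h : RegTriple J x y z) :
    (3 : ℕ∞) ≤ LocCoh.depth A A := by
  rw [show (3 : ℕ∞) = ((3 : ℕ) : ℕ∞) from rfl, le_depth_iff]
  refine ⟨[x, y, z], rfl, by simp only [List.mem_cons, List.not_mem_nil, or_false, forall_eq_or_imp, forall_eq]; exact ⟨hx, hy, hz⟩, (isWeaklyRegular_iff_Fin A _).2 fun i => ?_⟩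
  rw [isSMulRegular_quotient_iff_mem_of_smul_mem]
  have h1 := next hJ hB (I := (⊥ : Ideal A)) (fun n => by simp) (r := x) (by simpa using h.fst)
  have h2 := next hJ hB (h.toRegPair.inter hJ hB) h.snd
  have h3 := next hJ hB h2.2 h.thd
  fin_cases i <;> intro t ht
  · simpa [Ideal.ofList_cons, Ideal.ofList_nil] using h1.1 t (by simpa [Ideal.ofList_cons, Ideal.ofList_nil] using ht)
  · simpa [Ideal.ofList_cons, Ideal.ofList_nil] using h2.1 t (by simpa [Ideal.ofList_cons, Ideal.ofList_nil] using ht)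
  · simpa [Ideal.ofList_cons, Ideal.ofList_nil] using h3.1 t (by simpa [Ideal.ofList_cons, Ideal.ofList_nil] using ht)

omit [IsLocalRing A] in
theorem hasGrBasis_of_free (n : ℕ) [Nontrivial (A ⧸ J)]
    (h : Module.Free (A ⧸ J) (↥(J ^ n) ⧸ (J • (⊤ : Submodule A ↥(J ^ n))))) : HasGrBasis J n := by
  classical
  haveI := h
  let Q := ↥(J ^ n) ⧸ (J • (⊤ : Submodule A ↥(J ^ n)))
  haveI : Module.Finite A Q := inferInstance
  haveI : Module.Finite (A ⧸ J) Q := Module.Finite.of_restrictScalars_finite A (A ⧸ J) Q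
  let B := Module.Free.chooseBasis (A ⧸ J) Q
  choose e' he' using fun l => Submodule.Quotient.mk_surjective _ (B l)
  have hJs : ∀ v : ↥(J ^ n), v ∈ J • (⊤ : Submodule A ↥(J ^ n)) ↔ (v : A) ∈ J ^ (n + 1) := by
    intro v
    rw [Submodule.mem_smul_top_iff, pow_succ', smul_eq_mul]
  have hsum : ∀ f : Module.Free.ChooseBasisIndex (A ⧸ J) Q → A,
      ∑ l, Ideal.Quotient.mk J (f l) • B l = Submodule.Quotient.mk (∑ l, f l • e' l) := fun f => by
    rw [← Submodule.mkQ_apply, map_sum]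
    refine Finset.sum_congr rfl fun l _ => ?_
    rw [map_smul, Submodule.mkQ_apply, he']
    exact (IsScalarTower.algebraMap_smul (A ⧸ J) (f l) (B l))
  refine ⟨_, inferInstance, fun l => (e' l : A), fun l => (e' l).2, fun w hw => ?_, fun f hf l => ?_⟩
  · choose f hf using fun l => Ideal.Quotient.mk_surjective (B.repr (Submodule.Quotient.mk ⟨w, hw⟩) l)
    refine ⟨f, ?_⟩
    have h1 := hsum f
    simp only [hf, B.sum_repr] at h1
    have h2 := (hJs _).1 ((Submodule.Quotient.eq _).1 h1)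
    simpa [smul_eq_mul] using h2
  · have h1 : ∑ l, Ideal.Quotient.mk J (f l) • B l = 0 := by
      rw [hsum, Submodule.Quotient.mk_eq_zero, hJs]
      simpa [smul_eq_mul] using hf
    exact Ideal.Quotient.eq_zero_iff_mem.1 (Fintype.linearIndependent_iff.1 B.linearIndependent _ h1 l)

omit [IsLocalRing A] [IsNoetherianRing A] in
theorem hasGrBasis_span_singleton {t : A} (ht : IsSMulRegular A t) (n : ℕ) :
    HasGrBasis (Ideal.span {t}) n := by
  refine ⟨PUnit, inferInstance, fun _ => t ^ n, fun _ => ?_, fun w hw => ?_, fun f hf _ => ?_⟩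
  · exact Ideal.pow_mem_pow (Ideal.mem_span_singleton_self t) n
  · rw [Ideal.span_singleton_pow] at hw
    obtain ⟨r, rfl⟩ := Ideal.mem_span_singleton'.1 hw
    exact ⟨fun _ => r, by simp⟩
  · rw [Ideal.span_singleton_pow, Ideal.mem_span_singleton', Fintype.sum_unique] at hf
    obtain ⟨r, hr⟩ := hf
    rw [Ideal.mem_span_singleton']
    refine ⟨r, (IsSMulRegular.pow n ht) ?_⟩
    simp only [smul_eq_mul]
    rw [← mul_assoc, mul_comm (t ^ n) r, mul_assoc, ← pow_succ, hr, mul_comm]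

omit [IsLocalRing A] [IsNoetherianRing A] in
/-- The graded pieces of the extension of a maximal ideal along a flat map. -/
theorem hasGrBasis_map {R : Type u} [CommRing R] [IsNoetherianRing R] [Algebra R A] [Module.Flat R A]
    (𝔪 : Ideal R) [𝔪.IsMaximal] (n : ℕ) : HasGrBasis (𝔪.map (algebraMap R A)) n := by
  classical
  letI := Ideal.Quotient.field 𝔪
  obtain ⟨L, _, e, he, hspan, hind⟩ := hasGrBasis_of_free (A := R) 𝔪 n (Module.Free.of_divisionRing _ _)
  refine ⟨L, inferInstance, fun l => algebraMap R A (e l), fun l => ?_, fun w hw => ?_, ?_⟩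
  · rw [← Ideal.map_pow]; exact Ideal.mem_map_of_mem _ (he l)
  · rw [← Ideal.map_pow] at hw
    let K : Ideal A := Ideal.span (Set.range fun l => algebraMap R A (e l)) ⊔ 𝔪.map (algebraMap R A) ^ (n + 1)
    have hK : w ∈ K := by
      refine (Ideal.map_le_iff_le_comap.2 fun r hr => ?_) hw
      obtain ⟨f, hf⟩ := hspan r hr
      show algebraMap R A r ∈ K
      rw [show r = (r - ∑ l, f l * e l) + ∑ l, f l * e l by ring, map_add, map_sum]
      refine Ideal.add_mem _ (Submodule.mem_sup_right (by rw [← Ideal.map_pow]; exact Ideal.mem_map_of_mem _ hf))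
        (Submodule.mem_sup_left (Ideal.sum_mem _ fun l _ => ?_))
      rw [map_mul]
      exact Ideal.mul_mem_left _ _ (Ideal.subset_span ⟨l, rfl⟩)
    obtain ⟨p, hp, q, hq, rfl⟩ := Submodule.mem_sup.1 hK
    obtain ⟨f, rfl⟩ := (Submodule.mem_span_range_iff_exists_fun A).1 hp
    exact ⟨f, by simpa [smul_eq_mul] using hq⟩
  · intro f hf l
    rw [← Ideal.map_pow] at hf
    obtain ⟨m, g, hg⟩ := Submodule.fg_iff_exists_fin_generating_family.1 (IsNoetherian.noetherian (𝔪 ^ (n + 1)))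
    have hf' : ∑ l, f l * algebraMap R A (e l) ∈ Ideal.span (Set.range fun p => algebraMap R A (g p)) := by
      rwa [show 𝔪 ^ (n + 1) = Ideal.span (Set.range g) from hg.symm, Ideal.map_span, ← Set.range_comp] at hf
    obtain ⟨c, hc⟩ := (Submodule.mem_span_range_iff_exists_fun A).1 hf'
    obtain ⟨k, α, y, h1, h2⟩ := Module.Flat.isTrivialRelation_of_sum_smul_eq_zero (R := R) (M := A)
      (f := Sum.elim e (fun p => -g p)) (x := Sum.elim f c) (by
        simp only [Fintype.sum_sum_type, Sum.elim_inl, Sum.elim_inr, Algebra.smul_def, map_neg, neg_mul,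
          Finset.sum_neg_distrib, mul_comm (algebraMap R A _)]
        rw [← hc]
        simp [smul_eq_mul])
    have h3 : ∀ j, α (Sum.inl l) j ∈ 𝔪 := fun j => by
      refine hind (fun l => α (Sum.inl l) j) ?_ l
      have h4 := h2 j
      simp only [Fintype.sum_sum_type, Sum.elim_inl, Sum.elim_inr, neg_mul, Finset.sum_neg_distrib,
        ← sub_eq_add_neg, sub_eq_zero] at h4
      rw [show ∑ l, α (Sum.inl l) j * e l = ∑ x, e x * α (Sum.inl x) j from Finset.sum_congr rfl fun _ _ => mul_comm _ _, h4]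
      refine Ideal.sum_mem _ fun p _ => Ideal.mul_mem_right _ _ ?_
      rw [show 𝔪 ^ (n + 1) = Ideal.span (Set.range g) from hg.symm]
      exact Ideal.subset_span ⟨p, rfl⟩
    rw [show f l = ∑ j, α (Sum.inl l) j • y j from h1 (Sum.inl l)]
    refine Ideal.sum_mem _ fun j _ => ?_
    rw [Algebra.smul_def]
    exact Ideal.mul_mem_right _ _ (Ideal.mem_map_of_mem _ (h3 j))

end GrDepthPicLib
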