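import Groth.Agent.GrDepthPicLib.Core
import Groth.Agent.GrDepthPicLib.Tools
import Groth.Agent.ParaFLib.FlatDescent
import Groth.Prelude.Def_Formal2

/-!
# Invertible modules on a punctured spectrum which are trivial modulo an ideal with deep graded pieces
-/

set_option autoImplicit false
set_option maxHeartbeats 1000000

universe u

open CategoryTheory AlgebraicGeometry TopologicalSpace Opposite IsLocalRing
open AmpleLib ParaFLib

noncomputable section

namespace GrDepthPicLib

variable (A : Type u) [CommRing A] [IsLocalRing A]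

theorem mem_puncturedSpec {q : Spec (CommRingCat.of A)} :
    q ∈ FEt.puncturedSpec A ↔ q.asIdeal ≠ maximalIdeal A :=
  not_congr PrimeSpectrum.ext_iff

theorem zero_of_smul_genAt {R : Type u} [CommRing R] {U : (Spec (CommRingCat.of R)).Opens}
    {G : (Spec (CommRingCat.of R)).Modules} {m : Γ(G, U)} {q : Spec (CommRingCat.of R)} {hq : q ∈ U}
    (hm : GenAt G m hq) {r : R} (h : chi R U r • m = 0) : ∃ u ∉ q.asIdeal, u * r = 0 := by
  refine exists_zero_of_toStalk R (hm.1 ?_)
  have h1 := congrArg (G.presheaf.germ U q hq) h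
  rw [germ_smul, germ_chi R hq, map_zero] at h1
  show _ • _ = (0 : (Spec (CommRingCat.of R)).presheaf.stalk q) • _
  rw [zero_smul]
  exact h1

variable [IsNoetherianRing A] (J : Ideal A) [IsLocalRing (A ⧸ J)]

theorem ne_top_of_isLocalRing_quot : J ≠ ⊤ := Ideal.Quotient.nontrivial_iff.1 inferInstance

theorem preimage_quot :
    Spec.map (CommRingCat.ofHom (Ideal.Quotient.mk J)) ⁻¹ᵁ FEt.puncturedSpec A = FEt.puncturedSpec (A ⧸ J) := by
  refine Opens.ext (Set.ext fun Q => not_congr ?_)
  show Spec.map (CommRingCat.ofHom (Ideal.Quotient.mk J)) Q = closedPoint A ↔ Q = closedPoint (A ⧸ J)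
  have hmax : Ideal.comap (Ideal.Quotient.mk J) (maximalIdeal (A ⧸ J)) = maximalIdeal A := by
    haveI := Ideal.comap_isMaximal_of_surjective (Ideal.Quotient.mk J) Ideal.Quotient.mk_surjective
      (K := maximalIdeal (A ⧸ J))
    exact eq_maximalIdeal inferInstance
  constructor
  · intro h
    refine PrimeSpectrum.ext (Ideal.comap_injective_of_surjective _ Ideal.Quotient.mk_surjective ?_)
    exact (congrArg PrimeSpectrum.asIdeal h).trans hmax.symm
  · rintro rfl
    exact PrimeSpectrum.ext hmax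

variable (hB : ∀ n, HasGrBasis J n) (hd : (3 : ℕ∞) ≤ LocCoh.depth (A ⧸ J) (A ⧸ J))
include hB hd

theorem three_le_depth : (3 : ℕ∞) ≤ LocCoh.depth A A := by
  obtain ⟨x, y, z, hx, hy, hz, h⟩ := exists_regTriple J hd 1
  rw [pow_one] at hx hy hz
  exact le_depth_of_regTriple J (ne_top_of_isLocalRing_quot A J) hB hx hy hz h

theorem exists_genOn_of_mod (G : (Spec (CommRingCat.of A)).Modules) [Coh.IsQCoh G]
    (hG : InvOn G (FEt.puncturedSpec A))
    (hσ : ∃ σ : Γ(KFlatLib.pb (Spec.map (CommRingCat.ofHom (Ideal.Quotient.mk J))) G,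
      Spec.map (CommRingCat.ofHom (Ideal.Quotient.mk J)) ⁻¹ᵁ FEt.puncturedSpec A), GenOn _ σ) :
    ∃ σ : Γ(G, FEt.puncturedSpec A), GenOn G σ := by
  classical
  let π := Ideal.Quotient.mk J
  let Y := Spec (CommRingCat.of A)
  let Y' := Spec (CommRingCat.of (A ⧸ J))
  let g : Y' ⟶ Y := Spec.map (CommRingCat.ofHom π)
  let U : Y.Opens := FEt.puncturedSpec A
  have hW := preimage_quot A J
  have hbB : Function.Bijective (chi (A ⧸ J) (g ⁻¹ᵁ U)) := by
    rw [hW]
    exact ((h0_puncturedSpec_iff (A ⧸ J)).1 ((h0_iff_depth (A ⧸ J)).2 (le_trans (by norm_num) hd))).comp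
      (ConcreteCategory.bijective_of_isIso (Scheme.ΓSpecIso (CommRingCat.of (A ⧸ J))).inv)
  have hsA : Function.Surjective (chi A U) :=
    ((h0_puncturedSpec_iff A).1 ((h0_iff_depth A).2 (le_trans (by norm_num) (three_le_depth A J hB hd)))).2.comp
      (ConcreteCategory.bijective_of_isIso (Scheme.ΓSpecIso (CommRingCat.of A)).inv).2
  haveI : IsNoetherianRing (CommRingCat.of A) := inferInstanceAs (IsNoetherianRing A)
  haveI : IsLocallyNoetherian Y := inferInstance
  haveI : NoetherianSpace Y := inferInstanceAs (NoetherianSpace (PrimeSpectrum A))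
  have hc : IsCompact (U : Set Y) := NoetherianSpace.isCompact _
  have hqs : IsQuasiSeparated (U : Set Y) := fun _ _ _ _ _ _ _ _ => NoetherianSpace.isCompact _
  obtain ⟨ι, hι, a, m, hcov, hgen, hrel⟩ := exists_gens A hc hqs hsA G hG
  choose k b hkb using hrel
  obtain ⟨σ, hσ⟩ := hσ
  obtain ⟨cb, hcu, hcr⟩ := exists_pull_coef π hbB G a m k b hgen hkb hσ
  choose c hcc using fun i => Ideal.Quotient.mk_surjective (cb i)
  have hcov' : ∀ q ∈ g ⁻¹ᵁ U, ∃ i, q ∈ Y'.basicOpen (chi (A ⧸ J) (g ⁻¹ᵁ U) (π (a i))) := fun q hq => by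
    obtain ⟨i, hi⟩ := hcov (g q) hq
    exact ⟨i, (mem_basicOpen_chi (A ⧸ J)).2 ⟨hq, ((mem_basicOpen_chi A).1 hi).2⟩⟩
  have D : Data a k b J c := by
    refine ⟨ne_top_of_isLocalRing_quot A J, hB, fun q hq hqm => ?_, fun q hq hqm i hi => ?_, fun i j => ?_,
      fun q hq hqm hJq i hi => ?_, fun d hd' => ?_, fun u hu => ?_⟩
    · obtain ⟨i, hi⟩ := hcov ⟨q, hq⟩ ((mem_puncturedSpec A).2 hqm)
      exact ⟨i, ((mem_basicOpen_chi A).1 hi).2⟩
    · let x : Y := ⟨q, hq⟩
      have hx : x ∈ U := (mem_puncturedSpec A).2 hqm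
      have hxi : x ∈ Y.basicOpen (chi A U (a i)) := (mem_basicOpen_chi A).2 ⟨hx, hi⟩
      have hgx : GenAt G (m i) hx := (genAt_res (Y.basicOpen_le _) (m i) hxi).1 ((hgen i).genAt hxi)
      let P : ι → A := fun l => ∏ p ∈ Finset.univ.erase l, a i ^ k i p
      let Pt : A := ∏ p, a i ^ k i p
      have hP : ∀ l, chi A U (P l * b i l) • m i = chi A U Pt • m l := fun l => by
        rw [map_mul, mul_smul, ← hkb i l, smul_smul, ← map_mul]
        congr 2
        exact Finset.prod_erase_mul _ _ (Finset.mem_univ l)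
      have hR : ∀ p : ι × ι, ∃ u ∉ q, u * (a p.1 ^ k p.1 p.2 * (P p.2 * b i p.2) - b p.1 p.2 * (P p.1 * b i p.1)) = 0 := by
        rintro ⟨j, l⟩
        refine zero_of_smul_genAt hgx ?_
        dsimp only
        rw [map_sub, sub_smul, map_mul _ (a j ^ k j l), map_mul _ (b j l), mul_smul, mul_smul, hP, hP,
          smul_comm (chi A U (a j ^ k j l)), smul_comm (chi A U (b j l)), ← smul_sub, hkb j l, sub_self, smul_zero]
      choose u hu hu0 using hR
      obtain ⟨v, hv, hv0⟩ := zero_of_smul_genAt hgx (r := a i ^ k i i - b i i) (by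
        rw [map_sub, sub_smul, hkb i i, sub_self])
      refine ⟨fun l => (∏ p, u p) * (P l * b i l), ⟨fun l => by simp, fun j l => ?_⟩, fun h => ?_⟩
      · rw [← Finset.prod_erase_mul _ _ (Finset.mem_univ ((j, l) : ι × ι))]
        have h0 := hu0 (j, l)
        dsimp only at h0
        linear_combination (∏ p ∈ Finset.univ.erase ((j, l) : ι × ι), u p) * h0
      · have hne : ∀ (p : ι), a i ^ k i p ∉ q := fun p hp => hi (hq.mem_of_pow_mem _ hp)
        rcases hq.mem_or_mem h with h | h
        · obtain ⟨p, -, hp⟩ := Ideal.IsPrime.prod_mem_iff.1 h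
          exact hu p hp
        · rcases hq.mem_or_mem h with h | h
          · obtain ⟨p, -, hp⟩ := Ideal.IsPrime.prod_mem_iff.1 h
            exact hne p hp
          · refine hne i ?_
            rcases hq.mem_or_mem (show v * (a i ^ k i i - b i i) ∈ q by rw [hv0]; exact q.zero_mem) with h' | h'
            · exact absurd h' hv
            · rw [show a i ^ k i i = (a i ^ k i i - b i i) + b i i by ring]
              exact q.add_mem h' h
    · refine Ideal.Quotient.eq_zero_iff_mem.1 ?_
      rw [map_sub, map_mul, map_mul, map_pow, hcc, hcc, sub_eq_zero]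
      exact hcr i j
    · have hk : RingHom.ker π ≤ q := by rw [Ideal.mk_ker]; exact hJq
      let Q : Y' := ⟨q.map π, Ideal.map_isPrime_of_surjective Ideal.Quotient.mk_surjective hk⟩
      have hgQ : g Q = ⟨q, hq⟩ := PrimeSpectrum.ext (by
        show Ideal.comap π (q.map π) = q
        rw [Ideal.comap_map_of_surjective _ Ideal.Quotient.mk_surjective, ← RingHom.ker_eq_comap_bot, sup_eq_left.2 hk])
      have hQW : Q ∈ g ⁻¹ᵁ U := by
        show g Q ∈ U
        rw [hgQ]; exact (mem_puncturedSpec A).2 hqm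
      have h := hcu i Q ((mem_basicOpen_chi (A ⧸ J)).2 ⟨hQW, fun h => hi (by
        have h' : a i ∈ Ideal.comap π (q.map π) := h
        rwa [show Ideal.comap π (q.map π) = q from congrArg PrimeSpectrum.asIdeal hgQ] at h')⟩)
      exact fun hc' => h (by rw [← hcc]; exact Ideal.mem_map_of_mem π hc')
    · obtain ⟨u, hu⟩ := exists_proportional (A ⧸ J) hbB (fun i => π (a i)) k (fun i j => π (b i j)) hcov'
        cb hcu hcr (fun i => π (d i)) fun i j => by
          rw [← map_pow, ← map_mul, ← map_mul, ← sub_eq_zero, ← map_sub]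
          exact Ideal.Quotient.eq_zero_iff_mem.2 (hd' i j)
      obtain ⟨u, rfl⟩ := Ideal.Quotient.mk_surjective u
      exact ⟨u, fun i => Ideal.Quotient.eq_zero_iff_mem.1 (by rw [map_sub, map_mul, hcc, hu i, sub_self])⟩
    · refine Ideal.Quotient.eq_zero_iff_mem.1 (hbB.1 (TopCat.Presheaf.section_ext Y'.sheaf _ _ _ fun q hq => ?_))
      obtain ⟨i, hi⟩ := hcov' q hq
      show Y'.presheaf.germ _ q hq (chi (A ⧸ J) _ (π u)) = Y'.presheaf.germ _ q hq (chi (A ⧸ J) _ 0)
      rw [germ_chi' (A ⧸ J) hq, germ_chi' (A ⧸ J) hq, map_zero]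
      refine (stalk_isUnit_of_not_mem (A ⧸ J) q _ (hcu i q hi)).mul_left_eq_zero.1 ?_
      rw [← map_mul, ← hcc, ← map_mul, Ideal.Quotient.eq_zero_iff_mem.2 (hu i), map_zero]
  obtain ⟨w, hw, -, hwu⟩ := exists_unit_solution D (exists_regTriple J hd)
  refine exists_genOn_of_coef A G a m w hcov hgen (fun i q hq => ?_) fun i j =>
    ⟨a i ^ k i j, b i j, fun q hq h => ((mem_basicOpen_chi A).1 hq).2 (q.isPrime.mem_of_pow_mem _ h),
      hkb i j, hw.2 i j⟩
  have hq' := (mem_basicOpen_chi A).1 hq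
  exact hwu q.asIdeal q.isPrime ((mem_puncturedSpec A).1 hq'.1) i hq'.2

/-- An invertible module on the punctured spectrum of `A` which is trivial modulo `J` is trivial. -/
theorem picPullbackInjective_mod :
    Formal2.PicPullbackInjective (Spec.map (CommRingCat.ofHom (Ideal.Quotient.mk J)) ∣_ FEt.puncturedSpec A) := by
  intro L hL h
  haveI : IsNoetherianRing (CommRingCat.of A) := inferInstanceAs (IsNoetherianRing A)
  haveI : IsLocallyNoetherian (Spec (CommRingCat.of A)) := inferInstance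
  haveI : NoetherianSpace (Spec (CommRingCat.of A)) := inferInstanceAs (NoetherianSpace (PrimeSpectrum A))
  haveI : Coh.IsQCoh L := TwistLib.isQCoh_of_isInvertible hL
  haveI : QuasiCompact (FEt.puncturedSpec A).ι := inferInstance
  haveI : Coh.IsQCoh ((Scheme.Modules.pushforward (FEt.puncturedSpec A).ι).obj L) :=
    QCohLib.isQCoh_pushforward _ L
  obtain ⟨σ, hσ⟩ := exists_genOn_of_mod A J hB hd _ (invOn_push (FEt.puncturedSpec A) hL)
    (genOn_pb_of_trivial _ _ h)
  obtain ⟨j⟩ := TwistLib.nonempty_iso_of_genOn σ hσ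
  exact ⟨(asIso ((Scheme.Modules.restrictAdjunction (FEt.puncturedSpec A).ι).counit.app L)).symm ≪≫ j⟩

/-- If the punctured spectrum of `A/J` has trivial Picard group, so does the one of `A`. -/
theorem picTrivial_of_mod (h0 : ParaF.PicTrivial (FEt.puncturedSpec (A ⧸ J) : Scheme.{u})) :
    ParaF.PicTrivial (FEt.puncturedSpec A : Scheme.{u}) := by
  intro L hL
  haveI : IsNoetherianRing (CommRingCat.of A) := inferInstanceAs (IsNoetherianRing A)
  haveI : IsLocallyNoetherian (Spec (CommRingCat.of A)) := inferInstance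
  haveI : NoetherianSpace (Spec (CommRingCat.of A)) := inferInstanceAs (NoetherianSpace (PrimeSpectrum A))
  haveI : Coh.IsQCoh L := TwistLib.isQCoh_of_isInvertible hL
  haveI : QuasiCompact (FEt.puncturedSpec A).ι := inferInstance
  haveI : Coh.IsQCoh ((Scheme.Modules.pushforward (FEt.puncturedSpec A).ι).obj L) :=
    QCohLib.isQCoh_pushforward _ L
  have hG := invOn_push (FEt.puncturedSpec A) hL
  have hext : ∀ M : (Spec (CommRingCat.of (A ⧸ J))).Modules,
      InvOn M (Spec.map (CommRingCat.ofHom (Ideal.Quotient.mk J)) ⁻¹ᵁ FEt.puncturedSpec A) →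
      ∃ σ : Γ(M, Spec.map (CommRingCat.ofHom (Ideal.Quotient.mk J)) ⁻¹ᵁ FEt.puncturedSpec A), GenOn M σ := by
    rw [preimage_quot A J]; exact (picTrivial_iff _).1 h0
  obtain ⟨σ, hσ⟩ := exists_genOn_of_mod A J hB hd _ hG (hext _ (invOn_pb _ hG))
  obtain ⟨j⟩ := TwistLib.nonempty_iso_of_genOn σ hσ
  exact ⟨(asIso ((Scheme.Modules.restrictAdjunction (FEt.puncturedSpec A).ι).counit.app L)).symm ≪≫ j⟩

/-- If `A/J` is parafactorial then so is `A`. -/
theorem isParafactorialLocalRing_of_mod (h0 : ParaF.IsParafactorialLocalRing (A ⧸ J)) :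
    ParaF.IsParafactorialLocalRing A :=
  (isParafactorialLocalRing_iff A).2 ⟨(h0_puncturedSpec_iff A).1 ((h0_iff_depth A).2
    (le_trans (by norm_num) (three_le_depth A J hB hd))),
    picTrivial_of_mod A J hB hd ((isParafactorialLocalRing_iff _).1 h0).2⟩

end GrDepthPicLib

end
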